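import Groth.Agent.H96.Countable
import Mathlib.AlgebraicGeometry.AlgClosed.Basic
import Mathlib.AlgebraicGeometry.Morphisms.Proper
import Mathlib.CategoryTheory.Monoidal.Cartesian.Over
import Mathlib.CategoryTheory.Monoidal.Cartesian.Grp

/-!
The maximal subvarieties of a countable union of closed subsets forming a group, through the neutral element.
-/

set_option autoImplicit false
set_option linter.style.haveILetI false

universe u

open CategoryTheory CategoryTheory.Limits MonoidalCategory CartesianMonoidalCategory MonObj GrpObj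
open AlgebraicGeometry TopologicalSpace

namespace Groth.Agent.H14.SubVar

variable {k : Type u} [Field k] {A : Over (Spec (CommRingCat.of k))}

/-- The image of a rational point. -/
noncomputable def pnt (x : 𝟙_ (Over (Spec (CommRingCat.of k))) ⟶ A) : A.left :=
  x.left.base (IsLocalRing.closedPoint k : Spec (CommRingCat.of k))

theorem range_eq (x : 𝟙_ (Over (Spec (CommRingCat.of k))) ⟶ A) : Set.range ⇑x.left.base = {pnt x} := by
  haveI : Subsingleton ↥(𝟙_ (Over (Spec (CommRingCat.of k)))).left :=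
    inferInstanceAs (Subsingleton (PrimeSpectrum k))
  ext p
  constructor
  · rintro ⟨z, rfl⟩
    exact congrArg x.left.base (Subsingleton.elim (α := (𝟙_ (Over (Spec (CommRingCat.of k)))).left) _ _)
  · rintro rfl
    exact ⟨_, rfl⟩

theorem range_subset_iff (x : 𝟙_ (Over (Spec (CommRingCat.of k))) ⟶ A) (T : Set A.left) :
    Set.range ⇑x.left.base ⊆ T ↔ pnt x ∈ T := by
  rw [range_eq, Set.singleton_subset_iff]

/-- Every closed point is the image of a rational point. -/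
theorem exists_pnt [IsAlgClosed k] [LocallyOfFiniteType A.hom] {p : A.left} (hp : IsClosed ({p} : Set A.left)) :
    ∃ x : 𝟙_ (Over (Spec (CommRingCat.of k))) ⟶ A, pnt x = p := by
  let e := pointEquivClosedPoint A.hom
  exact ⟨Over.homMk (e.symm ⟨p, hp⟩).1 (e.symm ⟨p, hp⟩).2,
    congrArg Subtype.val (e.apply_symm_apply ⟨p, hp⟩)⟩

variable [GrpObj A]

/-- Right translation by a rational point. -/
noncomputable def transR (y : 𝟙_ (Over (Spec (CommRingCat.of k))) ⟶ A) : A ⟶ A := 𝟙 A * (toUnit A ≫ y)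

/-- Left translation by a rational point. -/
noncomputable def transL (x : 𝟙_ (Over (Spec (CommRingCat.of k))) ⟶ A) : A ⟶ A := (toUnit A ≫ x) * 𝟙 A

theorem comp_transR (x y : 𝟙_ (Over (Spec (CommRingCat.of k))) ⟶ A) : x ≫ transR y = x * y := by
  rw [transR, MonObj.comp_mul, Category.comp_id, comp_toUnit_assoc, toUnit_unit, Category.id_comp]

theorem comp_transL (x y : 𝟙_ (Over (Spec (CommRingCat.of k))) ⟶ A) : y ≫ transL x = x * y := by
  rw [transL, MonObj.comp_mul, Category.comp_id, comp_toUnit_assoc, toUnit_unit, Category.id_comp]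

theorem transL_comp (x y : 𝟙_ (Over (Spec (CommRingCat.of k))) ⟶ A) :
    transL x ≫ transL y = transL (y * x) := by
  rw [transL, transL, transL, MonObj.comp_mul, Category.comp_id, comp_toUnit_assoc, MonObj.comp_mul, _root_.mul_assoc]

theorem transL_one : transL (1 : 𝟙_ (Over (Spec (CommRingCat.of k))) ⟶ A) = 𝟙 A := by
  rw [transL, MonObj.comp_one, _root_.one_mul]

theorem transR_one : transR (1 : 𝟙_ (Over (Spec (CommRingCat.of k))) ⟶ A) = 𝟙 A := by
  rw [transR, MonObj.comp_one, _root_.mul_one]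

omit [GrpObj A] in
theorem pnt_comp (x : 𝟙_ (Over (Spec (CommRingCat.of k))) ⟶ A) (m : A ⟶ A) : pnt (x ≫ m) = m.left.base (pnt x) := rfl

variable [LocallyOfFiniteType A.hom] (K : Subgroup (𝟙_ (Over (Spec (CommRingCat.of k))) ⟶ A))

/-- Irreducible closed subsets whose rational points belong to the subgroup. -/
def Adm (T : Closeds A.left) : Prop :=
  IsIrreducible (T : Set A.left) ∧ ∀ x, pnt x ∈ T → x ∈ K

omit [GrpObj A] [LocallyOfFiniteType A.hom] in
/-- An automorphism carries an irreducible closed subset to one. -/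
theorem image_iso (m m' : A ⟶ A) (h : m ≫ m' = 𝟙 A) (h' : m' ≫ m = 𝟙 A) {T : Closeds A.left}
    (hT : IsIrreducible (T : Set A.left)) :
    ∃ T' : Closeds A.left, IsIrreducible (T' : Set A.left) ∧ ∀ p, p ∈ T' ↔ m'.left.base p ∈ T := by
  refine ⟨⟨m'.left.base ⁻¹' T, T.2.preimage m'.left.continuous⟩, ?_, fun p => Iff.rfl⟩
  have e : m'.left.base ⁻¹' (T : Set A.left) = m.left.base '' T := by
    have h1 : ∀ p, m'.left.base (m.left.base p) = p := fun p =>
      (Scheme.Hom.comp_apply m.left m'.left p).symm.trans (congrArg (fun w : A ⟶ A => w.left.base p) h)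
    have h2 : ∀ p, m.left.base (m'.left.base p) = p := fun p =>
      (Scheme.Hom.comp_apply m'.left m.left p).symm.trans (congrArg (fun w : A ⟶ A => w.left.base p) h')
    ext p
    exact ⟨fun hp => ⟨_, hp, h2 p⟩, by rintro ⟨q, hq, rfl⟩; show m'.left.base (m.left.base q) ∈ T; rw [h1]; exact hq⟩
  show IsIrreducible (m'.left.base ⁻¹' (T : Set A.left))
  rw [e]
  exact hT.image _ m.left.continuous.continuousOn

variable [IsAlgClosed k] [Uncountable k] [CompactSpace A.left]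
  (Z : ℕ → Closeds A.left) (hK : ∀ x, x ∈ K ↔ pnt x ∈ ⋃ n, (Z n : Set A.left))

include hK
set_option linter.unusedSectionVars false

omit [IsAlgClosed k] [Uncountable k] in
/-- The components of the members of the family. -/
theorem exists_components : ∃ C : Set (Closeds A.left), C.Countable ∧
    (∀ F ∈ C, Adm K F ∧ ∃ n, (F : Set A.left) ⊆ Z n) ∧
    ∀ p n, p ∈ Z n → ∃ F ∈ C, p ∈ F := by
  haveI : IsLocallyNoetherian A.left := LocallyOfFiniteType.isLocallyNoetherian A.hom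
  haveI : AlgebraicGeometry.IsNoetherian A.left := ⟨⟩
  choose F hFfin hFc hFi hFU using fun n =>
    TopologicalSpace.NoetherianSpace.exists_finite_set_isClosed_irreducible (Z n).2
  refine ⟨{T | ∃ n, (T : Set A.left) ∈ F n}, ?_, fun T => ?_, fun p n hp => ?_⟩
  · exact (Set.countable_iUnion fun n => ((hFfin n).preimage SetLike.coe_injective.injOn).countable).mono
      fun T ⟨n, hn⟩ => Set.mem_iUnion.2 ⟨n, hn⟩
  · rintro ⟨n, hn⟩
    have hsub : (T : Set A.left) ⊆ Z n := fun q hq => (hFU n).ge ⟨_, hn, hq⟩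
    exact ⟨⟨hFi n _ hn, fun x hx => (hK x).2 (Set.mem_iUnion.2 ⟨n, hsub hx⟩)⟩, n, hsub⟩
  · obtain ⟨t, ht, hpt⟩ := (hFU n).le hp
    exact ⟨⟨t, hFc n t ht⟩, ⟨n, ht⟩, hpt⟩

/-- An admissible subset lies in a component. -/
theorem exists_component_ge {C : Set (Closeds A.left)} (hC : C.Countable)
    (hC' : ∀ p n, p ∈ Z n → ∃ F ∈ C, p ∈ F) {T : Closeds A.left} (hT : Adm K T) : ∃ F ∈ C, T ≤ F := by
  haveI := hC.to_subtype
  obtain ⟨⟨F, hF⟩, hsub⟩ := H96.Countable.exists_subset A.hom hT.1 T.2 (fun F : C => F.1) fun p hp hpc => by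
    obtain ⟨x, rfl⟩ := exists_pnt hpc
    obtain ⟨n, hn⟩ := Set.mem_iUnion.1 ((hK x).1 (hT.2 x hp))
    obtain ⟨F, hF, hpF⟩ := hC' _ n hn
    exact ⟨⟨F, hF⟩, hpF⟩
  exact ⟨F, hF, hsub⟩

/-- The products of two admissible subsets through the neutral element lie in one admissible subset above both. -/
theorem exists_mul {T₁ T₂ : Closeds A.left} (h₁ : Adm K T₁) (h₂ : Adm K T₂)
    (e₁ : pnt (1 : 𝟙_ (Over (Spec (CommRingCat.of k))) ⟶ A) ∈ T₁)
    (e₂ : pnt (1 : 𝟙_ (Over (Spec (CommRingCat.of k))) ⟶ A) ∈ T₂) :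
    ∃ F, Adm K F ∧ T₁ ≤ F ∧ T₂ ≤ F ∧ ∀ x y, pnt x ∈ T₁ → pnt y ∈ T₂ → pnt (x * y) ∈ F := by
  obtain ⟨C, hC, hC₁, hC₂⟩ := exists_components K Z hK
  let Af : C → Closeds A.left := fun F =>
    ⟨{p | p ∈ T₁ ∧ ∀ y, pnt y ∈ T₂ → (transR y).left.base p ∈ F.1}, by
      have : {p | p ∈ T₁ ∧ ∀ y, pnt y ∈ T₂ → (transR y).left.base p ∈ F.1} = (T₁ : Set A.left) ∩
          ⋂ y : {y : 𝟙_ (Over (Spec (CommRingCat.of k))) ⟶ A // pnt y ∈ T₂}, (transR y.1).left.base ⁻¹' F.1 := by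
        ext p
        simp
      rw [this]
      exact T₁.2.inter (isClosed_iInter fun y => F.1.2.preimage (transR y.1).left.continuous)⟩
  haveI := hC.to_subtype
  obtain ⟨F, hF⟩ := H96.Countable.exists_subset A.hom h₁.1 T₁.2 Af fun p hp hpc => by
    obtain ⟨x, rfl⟩ := exists_pnt hpc
    obtain ⟨T', hT', hmem⟩ := image_iso (transL x) (transL x⁻¹)
      (by rw [transL_comp, inv_mul_cancel, transL_one]) (by rw [transL_comp, mul_inv_cancel, transL_one]) h₂.1
    have hadm : Adm K T' := by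
      refine ⟨hT', fun z hz => ?_⟩
      have h3 := (hmem _).1 hz
      rw [← pnt_comp, comp_transL] at h3
      have h4 := K.mul_mem (h₁.2 x hp) (h₂.2 _ h3)
      rwa [mul_inv_cancel_left] at h4
    obtain ⟨F, hF, hle⟩ := exists_component_ge K Z hK hC hC₂ hadm
    refine ⟨⟨F, hF⟩, hp, fun y hy => hle ((hmem _).2 ?_)⟩
    rw [← pnt_comp, ← pnt_comp, comp_transR, comp_transL, inv_mul_cancel_left]
    exact hy
  have hmul : ∀ x y, pnt x ∈ T₁ → pnt y ∈ T₂ → pnt (x * y) ∈ F.1 := fun x y hx hy => by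
    rw [← comp_transR, pnt_comp]
    exact (hF hx).2 y hy
  refine ⟨F.1, (hC₁ F.1 F.2).1, fun p hp => ?_, ?_, hmul⟩
  · have := (hF hp).2 1 e₂
    rw [transR_one] at this
    exact this
  · obtain ⟨-, h⟩ := H96.Countable.exists_subset A.hom h₂.1 T₂.2 (fun _ : Unit => F.1) fun p hp hpc => by
      obtain ⟨y, rfl⟩ := exists_pnt hpc
      exact ⟨(), by simpa using hmul 1 y e₁ hp⟩
    exact h

/-- The maximal admissible subset through the neutral element. -/
theorem main :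
    (∃! T : Closeds A.left, Maximal (Adm K) T ∧ pnt (1 : 𝟙_ (Over (Spec (CommRingCat.of k))) ⟶ A) ∈ T) ∧
      ∀ T : Closeds A.left, Maximal (Adm K) T → pnt (1 : 𝟙_ (Over (Spec (CommRingCat.of k))) ⟶ A) ∈ T →
        (∃ n, (T : Set A.left) ⊆ Z n) ∧ ∀ x y, pnt x ∈ T → pnt y ∈ T → pnt (x * y⁻¹) ∈ T := by
  obtain ⟨C, hC, hC₁, hC₂⟩ := exists_components K Z hK
  have hex : ∀ T, Adm K T → ∃ M, Maximal (Adm K) M ∧ T ≤ M := fun T hT => by
    obtain ⟨F, hF, hle⟩ := exists_component_ge K Z hK hC hC₂ hT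
    obtain ⟨M, hM, hFM, hmax⟩ := H96.Countable.exists_maximal A.hom C (fun F hF => (hC₁ F hF).1.1) hF
    refine ⟨M, ⟨(hC₁ M hM).1, fun M' hM' hMM' => ?_⟩, hle.trans hFM⟩
    obtain ⟨F', hF', hle'⟩ := exists_component_ge K Z hK hC hC₂ hM'
    exact hle'.trans (hmax F' hF' (hMM'.trans hle')).le
  have huniq : ∀ T₁ T₂, Maximal (Adm K) T₁ → pnt (1 : 𝟙_ (Over (Spec (CommRingCat.of k))) ⟶ A) ∈ T₁ →
      Maximal (Adm K) T₂ → pnt (1 : 𝟙_ (Over (Spec (CommRingCat.of k))) ⟶ A) ∈ T₂ → T₁ = T₂ := by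
    intro T₁ T₂ h₁ e₁ h₂ e₂
    obtain ⟨F, hF, hle₁, hle₂, -⟩ := exists_mul K Z hK h₁.1 h₂.1 e₁ e₂
    exact (h₁.eq_of_le hF hle₁).trans (h₂.eq_of_le hF hle₂).symm
  refine ⟨?_, fun T hT eT => ⟨?_, fun x y hx hy => ?_⟩⟩
  · have hone : IsClosed ({pnt (1 : 𝟙_ (Over (Spec (CommRingCat.of k))) ⟶ A)} : Set A.left) :=
      (pointEquivClosedPoint A.hom ⟨(1 : 𝟙_ (Over (Spec (CommRingCat.of k))) ⟶ A).left, Over.w _⟩).2
    obtain ⟨n, hn⟩ := Set.mem_iUnion.1 ((hK 1).1 K.one_mem)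
    have h0 : Adm K ⟨_, hone⟩ := by
      refine ⟨isIrreducible_singleton, fun x hx => ?_⟩
      have hx' : pnt x = pnt (1 : 𝟙_ (Over (Spec (CommRingCat.of k))) ⟶ A) := hx
      exact (hK x).2 (hx' ▸ Set.mem_iUnion.2 ⟨n, hn⟩)
    obtain ⟨M, hM, hle⟩ := hex _ h0
    exact ⟨M, ⟨hM, hle rfl⟩, fun T hT => huniq T M hT.1 hT.2 hM (hle rfl)⟩
  · obtain ⟨F, hF, hle⟩ := exists_component_ge K Z hK hC hC₂ hT.1
    obtain ⟨n, hn⟩ := (hC₁ F hF).2
    exact ⟨n, fun p hp => hn (hle hp)⟩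
  · have hi : ι[A] ≫ ι[A] = 𝟙 A := by
      have := IsIso.hom_inv_id ι[A]
      rwa [GrpObj.inv_inv A] at this
    obtain ⟨T', hT', hmem⟩ := image_iso ι[A] ι[A] hi hi hT.1.1
    have hpi : ∀ z : 𝟙_ (Over (Spec (CommRingCat.of k))) ⟶ A, ι[A].left.base (pnt z) = pnt z⁻¹ := fun z => rfl
    have hadm : Adm K T' := ⟨hT', fun z hz => by
      have h5 := (hmem _).1 hz
      rw [hpi] at h5
      exact _root_.inv_inv z ▸ K.inv_mem (hT.1.2 _ h5)⟩
    have e' : pnt (1 : 𝟙_ (Over (Spec (CommRingCat.of k))) ⟶ A) ∈ T' := (hmem _).2 (by rw [hpi, inv_one]; exact eT)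
    obtain ⟨M, hM, hle⟩ := hex _ hadm
    have hMT := huniq M T hM (hle e') hT eT
    have hy' : pnt y⁻¹ ∈ T := hMT ▸ hle ((hmem _).2 (by rw [hpi, _root_.inv_inv]; exact hy))
    obtain ⟨F, hF, hle₁, -, hmul⟩ := exists_mul K Z hK hT.1 hT.1 eT eT
    have := hT.eq_of_le hF hle₁
    rw [this]
    exact hmul x y⁻¹ hx hy'

end Groth.Agent.H14.SubVar
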